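import Mathlib
import Cfsg.Agent.FastGrp
import Cfsg.Agent.Prune
set_option linter.all false
prune_inst 0x7f00000000000000000000000000000000000000000000000000000000000000000000000000000000000000000000000000000000000000000000000000000000000000000000000000000000000000003fffffffffffffffffffffffffffbeffbdffffffff
open scoped Cfsg.Agent.FastGrp

/-!
# Involutions outside a subgroup of index two (helper878)

`ncard_sq_le` : if `N ≤ H`, products of two elements of `H` outside `N` lie in `N`, then the number `m` of the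
involutions of `H` outside `N` satisfies `m ^ 2 ≤ k(N) |N|`.
-/

set_option autoImplicit false

namespace Cfsg.Agent.H878.EPX

variable {G : Type*} [Group G] [Finite G]

theorem ncard_sq_le (H N : Subgroup G) (h2 : ∀ a ∈ H, a ∉ N → ∀ b ∈ H, b ∉ N → a * b ∈ N) :
    {t : G | t ∈ H ∧ t ∉ N ∧ t * t = 1}.ncard ^ 2 ≤ Nat.card (ConjClasses N) * Nat.card N := by
  classical
  set S : Set G := {t : G | t ∈ H ∧ t ∉ N ∧ t * t = 1} with hS
  have hex : ∀ x : N, ∃ t : G, (∃ t' ∈ S, t' * x * t' = (x : G)⁻¹) → (t ∈ S ∧ t * x * t = (x : G)⁻¹) := by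
    intro x
    by_cases h : ∃ t' ∈ S, t' * x * t' = (x : G)⁻¹
    · obtain ⟨t', ht', h'⟩ := h
      exact ⟨t', fun _ => ⟨ht', h'⟩⟩
    · exact ⟨1, fun h' => absurd h' h⟩
  choose τ hτ using hex
  have hinv : ∀ t ∈ S, t⁻¹ = t := fun t ht => inv_eq_of_mul_eq_one_left ht.2.2
  have hx : ∀ p : S × S, (p.1 : G) * p.2 ∈ N := fun p => h2 _ p.1.2.1 p.1.2.2.1 _ p.2.2.1 p.2.2.2.1
  have hin : ∀ p : S × S, (p.1 : G) * ((p.1 : G) * p.2) * p.1 = ((p.1 : G) * p.2)⁻¹ := by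
    intro p
    rw [mul_inv_rev, hinv _ p.1.2, hinv _ p.2.2, ← mul_assoc, p.1.2.2.2, one_mul]
  have hτ' : ∀ p : S × S, τ ⟨_, hx p⟩ ∈ S ∧ τ ⟨_, hx p⟩ * ((p.1 : G) * p.2) * τ ⟨_, hx p⟩ = ((p.1 : G) * p.2)⁻¹ :=
    fun p => hτ ⟨_, hx p⟩ ⟨p.1, p.1.2, hin p⟩
  have hy : ∀ p : S × S, τ ⟨_, hx p⟩ * (p.1 : G) ∈ N := fun p => h2 _ (hτ' p).1.1 (hτ' p).1.2.1 _ p.1.2.1 p.1.2.2.1
  have hcomm : ∀ p : S × S, Commute (⟨_, hx p⟩ : N) ⟨_, hy p⟩ := by
    intro p
    apply Subtype.ext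
    show (p.1 : G) * p.2 * (τ ⟨_, hx p⟩ * p.1) = τ ⟨_, hx p⟩ * p.1 * (p.1 * p.2)
    have e1 := (hτ' p).2
    have e2 := hin p
    set u : G := τ ⟨_, hx p⟩ with hu
    set x : G := (p.1 : G) * p.2 with hxd
    have hu1 : u * u = 1 := (hτ' p).1.2.2
    have hp1 : (p.1 : G) * p.1 = 1 := p.1.2.2.2
    have e3 : x * u = u * x⁻¹ := by
      calc x * u = (u * u) * (x * u) := by rw [hu1, one_mul]
        _ = u * (u * x * u) := by group
        _ = u * x⁻¹ := by rw [e1]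
    have e4 : x⁻¹ * p.1 = p.1 * x := by
      calc x⁻¹ * p.1 = p.1 * x * p.1 * p.1 := by rw [e2]
        _ = p.1 * x * (p.1 * p.1) := by group
        _ = p.1 * x := by rw [hp1, mul_one]
    calc x * (u * p.1) = (x * u) * p.1 := by group
      _ = u * (x⁻¹ * p.1) := by rw [e3]; group
      _ = u * p.1 * x := by rw [e4]; group
  have hfin : Finite S := Subtype.finite
  rw [← card_comm_eq_card_conjClasses_mul_card, pow_two, ← Nat.card_coe_set_eq, ← Nat.card_prod]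
  refine Nat.card_le_card_of_injective (fun p : S × S => ⟨(⟨_, hx p⟩, ⟨_, hy p⟩), hcomm p⟩) ?_
  intro p q hpq
  have h1 := congrArg (fun z => z.1.1) hpq
  have h3 := congrArg (fun z => ((z.1.2 : N) : G)) hpq
  simp only at h1 h3
  have h4 : (p.1 : G) = q.1 := by
    rw [h1] at h3
    exact mul_left_cancel h3
  have h5 : (p.1 : G) * p.2 = q.1 * q.2 := congrArg Subtype.val h1
  rw [h4] at h5
  exact Prod.ext (Subtype.ext h4) (Subtype.ext (mul_left_cancel h5))

end Cfsg.Agent.H878.EPX
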